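import Groth.Agent.H66.Weitz.SL2
import Groth.Agent.Lib.Comod.Cartier
import Groth.Agent.H83.HopfPts.Rosenlicht
import Mathlib

/-!
The kernel of a linear nilpotent derivation as invariants of a unipotent one-parameter subgroup, and
the extension of such invariants to invariants of `SL₂` with one extra vector.
-/

set_option autoImplicit false
set_option linter.unusedSectionVars false
universe u w

namespace Groth.Agent.H66.Weitz

open CoordGrp Matrix TensorProduct

noncomputable section

variable {k : Type u} [Field k]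
variable {ι κ : Type} [Fintype ι] [DecidableEq ι] [Fintype κ] [DecidableEq κ]

/-- The derivation of a matrix. -/
def der (N : Matrix ι ι k) : Derivation k (MvPolynomial ι k) (MvPolynomial ι k) :=
  MvPolynomial.mkDerivation k fun j : ι => ∑ i : ι, N i j • (MvPolynomial.X i : MvPolynomial ι k)

theorem der_X (N : Matrix ι ι k) (j : ι) :
    der N (MvPolynomial.X j) = ∑ i : ι, N i j • (MvPolynomial.X i : MvPolynomial ι k) :=
  MvPolynomial.mkDerivation_X _ _ _

/-- The linear substitution of a matrix. -/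
def subst (A : Matrix κ ι k) : MvPolynomial ι k →ₐ[k] MvPolynomial κ k :=
  MvPolynomial.aeval fun j : ι => ∑ i : κ, A i j • (MvPolynomial.X i : MvPolynomial κ k)

theorem subst_X (A : Matrix κ ι k) (j : ι) :
    subst A (MvPolynomial.X j) = ∑ i : κ, A i j • (MvPolynomial.X i : MvPolynomial κ k) :=
  MvPolynomial.aeval_X _ _

theorem subst_subst {μ : Type} [Fintype μ] [DecidableEq μ] (B : Matrix μ κ k) (A : Matrix κ ι k)
    (f : MvPolynomial ι k) : subst B (subst A f) = subst (B * A) f := by
  rw [← AlgHom.comp_apply]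
  congr 1
  refine MvPolynomial.algHom_ext fun j => ?_
  simp only [AlgHom.comp_apply, subst_X, map_sum, map_smul, Finset.smul_sum, Matrix.mul_apply, Finset.sum_smul,
    smul_smul]
  rw [Finset.sum_comm]
  exact Finset.sum_congr rfl fun i _ => Finset.sum_congr rfl fun l _ => by rw [mul_comm]

theorem subst_one (f : MvPolynomial ι k) : subst (1 : Matrix ι ι k) f = f := by
  have : subst (1 : Matrix ι ι k) = AlgHom.id k _ := MvPolynomial.algHom_ext fun j => by
    simp [subst_X, Matrix.one_apply, ite_smul]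
  rw [this, AlgHom.id_apply]

theorem der_subst (A : Matrix κ ι k) (N : Matrix ι ι k) (N' : Matrix κ κ k) (h : A * N = N' * A)
    (f : MvPolynomial ι k) : der N' (subst A f) = subst A (der N f) := by
  induction f using MvPolynomial.induction_on with
  | C a => simp [subst]
  | add p q hp hq => simp only [map_add, hp, hq]
  | mul_X p j hp =>
    have hX : der N' (subst A (MvPolynomial.X j)) = subst A (der N (MvPolynomial.X j)) := by
      simp only [subst_X, der_X, map_sum, map_smul, Derivation.map_smul, Finset.smul_sum, smul_smul]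
      rw [Finset.sum_comm]
      conv_rhs => rw [Finset.sum_comm]
      simp only [← Finset.sum_smul]
      have hh : ∀ l, ∑ i, A i j * N' l i = ∑ i, N i j * A l i := fun l => by
        have := congrFun (congrFun h l) j
        simp only [Matrix.mul_apply] at this
        rw [Finset.sum_congr rfl fun i _ => mul_comm (N i j) (A l i), this]
        exact Finset.sum_congr rfl fun i _ => mul_comm _ _
      simp only [hh]
    rw [map_mul, Derivation.leibniz, hp, hX, Derivation.leibniz, map_add]
    simp only [smul_eq_mul, map_mul]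

/-- A right action on variables by a matrix of values. -/
theorem eval_subst (A : Matrix κ ι k) (x : κ → k) (f : MvPolynomial ι k) :
    MvPolynomial.eval x (subst A f) = MvPolynomial.eval (x ᵥ* A) f := by
  rw [← MvPolynomial.coe_aeval_eq_eval, ← MvPolynomial.coe_aeval_eq_eval]
  show ((MvPolynomial.aeval x).comp (subst A)) f = MvPolynomial.aeval (x ᵥ* A) f
  congr 1
  refine MvPolynomial.algHom_ext fun j => ?_
  simp [subst_X, Matrix.vecMul, dotProduct, mul_comm]

variable (k) in
/-- The matrix `(1 c; 0 1)`. -/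
def uMat (c : k) : Matrix (Fin 2) (Fin 2) k := !![1, c; 0, 1]

theorem det_uMat (c : k) : (uMat k c).det = 1 := by simp [uMat, Matrix.det_fin_two]

variable {Q : Matrix ι ι (SLn 2 k)}

/-- The matrix of a point. -/
abbrev Qpt (Q : Matrix ι ι (SLn 2 k)) (M : Matrix (Fin 2) (Fin 2) k) (hM : M.det = 1) : Matrix ι ι k :=
  Q.map (SLn.pt 2 k M hM)

theorem eval_Mc (c : k) : (Mc Q).map (Polynomial.eval c) = Qpt Q (uMat k c) (det_uMat c) := by
  ext i j
  have e : (Polynomial.aeval c).comp (Tc k) = SLn.pt 2 k (uMat k c) (det_uMat c) := by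
    refine algHom_ext' fun a b => ?_
    rw [AlgHom.comp_apply, Tc, SLn.pt_X, SLn.pt_X]
    fin_cases a <;> fin_cases b <;> simp [uMat]
  show Polynomial.eval c (Tc k (Q i j)) = SLn.pt 2 k (uMat k c) (det_uMat c) (Q i j)
  rw [← e, AlgHom.comp_apply, Polynomial.coe_aeval_eq_eval]

/-- The orbit map of the unipotent subgroup. -/
def orb (Q : Matrix ι ι (SLn 2 k)) : MvPolynomial ι k →ₐ[k] Polynomial (MvPolynomial ι k) :=
  MvPolynomial.aeval fun j : ι => ∑ i : ι, Polynomial.C (MvPolynomial.X i) *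
    (Mc Q i j).map (algebraMap k (MvPolynomial ι k))

theorem eval_orb (c : k) (w : ι → k) (f : MvPolynomial ι k) :
    MvPolynomial.eval w ((orb Q f).eval (MvPolynomial.C c)) =
      MvPolynomial.eval (w ᵥ* Qpt Q (uMat k c) (det_uMat c)) f := by
  induction f using MvPolynomial.induction_on with
  | C a => simp [orb]
  | add p q hp hq => simp only [map_add, Polynomial.eval_add, hp, hq]
  | mul_X p j hp =>
    rw [map_mul, Polynomial.eval_mul, map_mul, hp, map_mul]
    congr 1
    rw [← eval_Mc c]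
    simp only [orb, MvPolynomial.aeval_X, Polynomial.eval_finsetSum, map_sum, Polynomial.eval_mul, Polynomial.eval_C,
      map_mul, MvPolynomial.eval_X, Matrix.vecMul, dotProduct, Matrix.map_apply]
    refine Finset.sum_congr rfl fun i _ => ?_
    congr 1
    rw [Polynomial.eval_map, ← Polynomial.aeval_def, ← MvPolynomial.algebraMap_eq,
      Polynomial.aeval_algebraMap_apply_eq_algebraMap_eval, MvPolynomial.algebraMap_eq, MvPolynomial.eval_C]

variable (hQ : H66.MatComod.IsMat k Q)
include hQ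

theorem derivative_orb (f : MvPolynomial ι k) :
    Polynomial.derivative (orb Q f) = orb Q (der (Nm Q) f) := by
  induction f using MvPolynomial.induction_on with
  | C a => simp [orb, Polynomial.algebraMap_apply]
  | add p q hp hq => simp only [map_add, hp, hq]
  | mul_X p j hp =>
    have hX : Polynomial.derivative (orb Q (MvPolynomial.X j)) = orb Q (der (Nm Q) (MvPolynomial.X j)) := by
      rw [der_X]
      have hm : ∀ i : ι, Polynomial.derivative (Mc Q i j) = ∑ l, Mc Q i l * Polynomial.C (Nm Q l j) := fun i =>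
        (derivative_Mc hQ i j).trans (Matrix.mul_apply ..)
      simp only [orb, map_sum, map_smul, MvPolynomial.aeval_X, Polynomial.derivative_C_mul, Polynomial.derivative_map,
        hm, Polynomial.map_sum, Polynomial.map_mul, Polynomial.map_C, Finset.mul_sum, Finset.smul_sum]
      rw [Finset.sum_comm]
      refine Finset.sum_congr rfl fun l _ => Finset.sum_congr rfl fun i _ => ?_
      rw [Algebra.smul_def, Polynomial.algebraMap_apply]
      ring
    rw [map_mul, Polynomial.derivative_mul, hp, hX, Derivation.leibniz, map_add]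
    simp only [smul_eq_mul, map_mul]
    ring

theorem coeff_zero_orb (f : MvPolynomial ι k) : (orb Q f).coeff 0 = f := by
  rw [Polynomial.coeff_zero_eq_eval_zero]
  have : ((Polynomial.aeval (R := MvPolynomial ι k) (0 : MvPolynomial ι k)).restrictScalars k).comp (orb Q) =
      AlgHom.id k (MvPolynomial ι k) := by
    refine MvPolynomial.algHom_ext fun j => ?_
    simp only [AlgHom.comp_apply, orb, MvPolynomial.aeval_X, map_sum, map_mul, AlgHom.restrictScalars_apply,
      Polynomial.aeval_C, Algebra.algebraMap_self, RingHom.id_apply, AlgHom.id_apply]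
    rw [Finset.sum_eq_single j]
    · rw [Polynomial.aeval_map_algebraMap, ← map_zero (algebraMap k (MvPolynomial ι k)),
        Polynomial.aeval_algebraMap_apply_eq_algebraMap_eval, eval_zero_Mc hQ]
      simp
    · intro i _ hi
      rw [Polynomial.aeval_map_algebraMap, ← map_zero (algebraMap k (MvPolynomial ι k)),
        Polynomial.aeval_algebraMap_apply_eq_algebraMap_eval, eval_zero_Mc hQ, Matrix.one_apply_ne hi]
      simp
    · simp
  have h := DFunLike.congr_fun this f
  simpa using h

theorem der_eq_zero_iff [CharZero k] (f : MvPolynomial ι k) :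
    der (Nm Q) f = 0 ↔ ∀ (c : k) (w : ι → k),
      MvPolynomial.eval (w ᵥ* Qpt Q (uMat k c) (det_uMat c)) f = MvPolynomial.eval w f := by
  constructor
  · intro h c w
    have h1 : Polynomial.derivative (orb Q f) = 0 := by rw [derivative_orb hQ, h, map_zero]
    rw [← eval_orb, Polynomial.eq_C_of_derivative_eq_zero h1, Polynomial.eval_C, coeff_zero_orb hQ]
  · intro h
    have h1 : orb Q f = Polynomial.C f := by
      rw [← sub_eq_zero]
      refine Polynomial.eq_zero_of_infinite_isRoot _ (Set.Infinite.mono (s := Set.range (MvPolynomial.C : k → MvPolynomial ι k))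
        ?_ (Set.infinite_range_of_injective (MvPolynomial.C_injective ι k)))
      rintro _ ⟨c, rfl⟩
      show Polynomial.eval _ _ = 0
      rw [Polynomial.eval_sub, Polynomial.eval_C, sub_eq_zero]
      exact MvPolynomial.funext fun w => (eval_orb c w f).trans (h c w)
    have h2 := coeff_zero_orb hQ (der (Nm Q) f)
    rw [← derivative_orb hQ, h1, Polynomial.derivative_C, Polynomial.coeff_zero] at h2
    exact h2.symm

/-- An invariant of the unipotent subgroup extends to an invariant of `SL₂` on the variables and one vector. -/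
theorem exists_extension (f : MvPolynomial ι k)
    (hf : ∀ (c : k) (w : ι → k), MvPolynomial.eval (w ᵥ* Qpt Q (uMat k c) (det_uMat c)) f = MvPolynomial.eval w f)
    [Infinite k] :
    ∃ F : MvPolynomial (ι ⊕ Fin 2) k,
      (∀ (h : Matrix (Fin 2) (Fin 2) k) (hh : h.det = 1) (x : ι ⊕ Fin 2 → k),
        MvPolynomial.eval (Sum.elim ((x ∘ Sum.inl) ᵥ* Qpt Q h hh) ((x ∘ Sum.inr) ᵥ* h)) F = MvPolynomial.eval x F) ∧
      ∀ w : ι → k, MvPolynomial.eval (Sum.elim w ![0, 1]) F = MvPolynomial.eval w f := by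
  classical
  let val : (ι ⊕ Fin 2 → k) → (g : Matrix (Fin 2) (Fin 2) k) → g.det = 1 → k := fun x g hg =>
    MvPolynomial.eval ((x ∘ Sum.inl) ᵥ* Qpt Q g.adjugate (by simp [Matrix.det_adjugate, hg])) f
  have hval : ∀ (x : ι ⊕ Fin 2 → k) (g g' : Matrix (Fin 2) (Fin 2) k) (hg : g.det = 1) (hg' : g'.det = 1),
      g 1 = g' 1 → val x g hg = val x g' hg' := by
    intro x g g' hg hg' h
    have hd : g.det = g 0 0 * g 1 1 - g 0 1 * g 1 0 := Matrix.det_fin_two g
    have hd' : g'.det = g' 0 0 * g' 1 1 - g' 0 1 * g' 1 0 := Matrix.det_fin_two g'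
    let c := -(g 0 0 * g' 0 1) + g 0 1 * g' 0 0
    have hc : g'.adjugate = g.adjugate * uMat k c := by
      rw [Matrix.adjugate_fin_two, Matrix.adjugate_fin_two]
      have h0 := congrFun h 0
      have h1 := congrFun h 1
      ext a b
      fin_cases a <;> fin_cases b <;> simp [uMat, Matrix.mul_apply, Fin.sum_univ_two, c]
      · exact h1.symm
      · rw [hd'] at hg'; rw [hd] at hg
        linear_combination g' 0 1 * hg - g 0 1 * hg' + g' 0 1 * g 0 1 * h0 - g 0 1 * g' 0 0 * h1
      · exact h0.symm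
      · rw [hd'] at hg'; rw [hd] at hg
        linear_combination (-(g' 0 0)) * hg + g 0 0 * hg' + g 0 0 * g' 0 0 * h1 - g 0 0 * g' 0 1 * h0
    simp only [val]
    rw [← hf c ((x ∘ Sum.inl) ᵥ* _), Matrix.vecMul_vecMul]
    simp only [Qpt]
    rw [map_pt_mul hQ]
    congr 3
    simp only [hc]
  -- the two charts
  have chart : ∀ (l : Fin 2) (g : (ι ⊕ Fin 2 → k) → Matrix (Fin 2) (Fin 2) k)
      (hg : ∀ x, x (Sum.inr l) ≠ 0 → (g x).det = 1)
      (hgp : ∀ a b : Fin 2, ∃ (P : MvPolynomial (ι ⊕ Fin 2) k) (N : ℕ), ∀ x, x (Sum.inr l) ≠ 0 →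
        (g x).adjugate a b * x (Sum.inr l) ^ N = MvPolynomial.eval x P),
      ∃ (P : MvPolynomial (ι ⊕ Fin 2) k) (N : ℕ), ∀ (x : ι ⊕ Fin 2 → k) (hx : x (Sum.inr l) ≠ 0),
        val x (g x) (hg x hx) * x (Sum.inr l) ^ N = MvPolynomial.eval x P := by
    intro l g hg hgp
    let U := {x : ι ⊕ Fin 2 → k // x (Sum.inr l) ≠ 0}
    let S : Subalgebra k (U → k) :=
      { carrier := {h | ∃ (P : MvPolynomial (ι ⊕ Fin 2) k) (N : ℕ), ∀ x : U, h x * x.1 (Sum.inr l) ^ N = MvPolynomial.eval x.1 P}
        add_mem' := by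
          rintro a b ⟨P, N, hP⟩ ⟨P', N', hP'⟩
          refine ⟨P * MvPolynomial.X (Sum.inr l) ^ N' + P' * MvPolynomial.X (Sum.inr l) ^ N, N + N', fun x => ?_⟩
          simp only [map_add, map_mul, map_pow, MvPolynomial.eval_X, ← hP, ← hP', Pi.add_apply, pow_add]
          ring
        mul_mem' := by
          rintro a b ⟨P, N, hP⟩ ⟨P', N', hP'⟩
          refine ⟨P * P', N + N', fun x => ?_⟩
          simp only [map_mul, ← hP, ← hP', Pi.mul_apply, pow_add]
          ring
        algebraMap_mem' := fun r => ⟨MvPolynomial.C r, 0, fun x => by simp⟩ }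
    let pts : SLn 2 k →ₐ[k] (U → k) := Pi.algHom _ _ fun x : U =>
      SLn.pt 2 k (g x.1).adjugate (by simp [Matrix.det_adjugate, hg x.1 x.2])
    have hpts : ∀ a, pts a ∈ S := by
      intro a
      obtain ⟨e, q, rfl⟩ := H66.GLnLR.sl_span (n := 2) (k := k) a
      rw [one_pow, one_mul, ← AlgHom.comp_apply, MvPolynomial.comp_aeval]
      refine (Algebra.adjoin_le (S := S) (s := Set.range fun p : Fin 2 × Fin 2 => pts (SLn.X p.1 p.2)) ?_) ?_
      · rintro _ ⟨⟨a, b⟩, rfl⟩
        obtain ⟨P, N, hP⟩ := hgp a b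
        exact ⟨P, N, fun x => by simp [pts, SLn.pt_X]; exact hP x.1 x.2⟩
      · rw [Algebra.adjoin_range_eq_range_aeval]
        exact ⟨q, rfl⟩
    let crd : ι → (U → k) := fun j x => ((x.1 ∘ Sum.inl) ᵥ* Q.map (SLn.pt 2 k (g x.1).adjugate (by simp [Matrix.det_adjugate, hg x.1 x.2]))) j
    have hcrd : ∀ j, crd j ∈ S := by
      intro j
      have : crd j = ∑ i, (fun x : U => x.1 (Sum.inl i)) * pts (Q i j) := by
        funext x
        simp [crd, pts, Matrix.vecMul, dotProduct, Finset.sum_apply]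
      rw [this]
      exact sum_mem fun i _ => mul_mem ⟨MvPolynomial.X (Sum.inl i), 0, fun x => by simp⟩ (hpts _)
    have hmem : (MvPolynomial.aeval crd f) ∈ S := by
      refine (Algebra.adjoin_le (S := S) (s := Set.range crd) ?_) ?_
      · rintro _ ⟨j, rfl⟩; exact hcrd j
      · rw [Algebra.adjoin_range_eq_range_aeval]; exact ⟨f, rfl⟩
    obtain ⟨P, N, hP⟩ := hmem
    refine ⟨P, N, fun x hx => ?_⟩
    rw [← hP ⟨x, hx⟩]
    congr 1
    rw [show (MvPolynomial.aeval crd f) ⟨x, hx⟩ =
      ((Pi.evalAlgHom k (fun _ : U => k) ⟨x, hx⟩).comp (MvPolynomial.aeval crd)) f from rfl,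
      MvPolynomial.comp_aeval]
    simp only [val, ← MvPolynomial.coe_aeval_eq_eval]
    rfl
  let gB : (ι ⊕ Fin 2 → k) → Matrix (Fin 2) (Fin 2) k := fun x =>
    !![(x (Sum.inr 1))⁻¹, 0; x (Sum.inr 0), x (Sum.inr 1)]
  let gA : (ι ⊕ Fin 2 → k) → Matrix (Fin 2) (Fin 2) k := fun x =>
    !![0, -(x (Sum.inr 0))⁻¹; x (Sum.inr 0), x (Sum.inr 1)]
  have hgB : ∀ x : ι ⊕ Fin 2 → k, x (Sum.inr 1) ≠ 0 → (gB x).det = 1 := fun x hx => by
    simp [gB, Matrix.det_fin_two, inv_mul_cancel₀ hx]
  have hgA : ∀ x : ι ⊕ Fin 2 → k, x (Sum.inr 0) ≠ 0 → (gA x).det = 1 := fun x hx => by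
    simp [gA, Matrix.det_fin_two, inv_mul_cancel₀ hx]
  obtain ⟨P, N, hP⟩ := chart 1 gB hgB (fun a b => by
    fin_cases a <;> fin_cases b
    · exact ⟨MvPolynomial.X (Sum.inr 1), 0, fun x _ => by simp [gB, Matrix.adjugate_fin_two]⟩
    · exact ⟨0, 0, fun x _ => by simp [gB, Matrix.adjugate_fin_two]⟩
    · exact ⟨-MvPolynomial.X (Sum.inr 0), 0, fun x _ => by simp [gB, Matrix.adjugate_fin_two]⟩
    · exact ⟨1, 1, fun x hx => by simp [gB, Matrix.adjugate_fin_two, inv_mul_cancel₀ hx]⟩)
  obtain ⟨P', N', hP'⟩ := chart 0 gA hgA (fun a b => by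
    fin_cases a <;> fin_cases b
    · exact ⟨MvPolynomial.X (Sum.inr 1), 0, fun x _ => by simp [gA, Matrix.adjugate_fin_two]⟩
    · exact ⟨1, 1, fun x hx => by simp [gA, Matrix.adjugate_fin_two, inv_mul_cancel₀ hx]⟩
    · exact ⟨-MvPolynomial.X (Sum.inr 0), 0, fun x _ => by simp [gA, Matrix.adjugate_fin_two]⟩
    · exact ⟨0, 0, fun x _ => by simp [gA, Matrix.adjugate_fin_two]⟩)
  let Xa : MvPolynomial (ι ⊕ Fin 2) k := MvPolynomial.X (Sum.inr 0)
  let Xb : MvPolynomial (ι ⊕ Fin 2) k := MvPolynomial.X (Sum.inr 1)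
  have hrow : ∀ x, (gA x) 1 = (gB x) 1 := fun x => by funext a; fin_cases a <;> rfl
  have heq : P * Xa ^ N' = P' * Xb ^ N := by
    have h0 : (P * Xa ^ N' - P' * Xb ^ N) * (Xa * Xb) = 0 := by
      refine MvPolynomial.funext fun x => ?_
      simp only [map_mul, map_sub, map_pow, map_zero, Xa, Xb, MvPolynomial.eval_X]
      by_cases ha : x (Sum.inr 0) = 0
      · simp [ha]
      by_cases hb : x (Sum.inr 1) = 0
      · simp [hb]
      rw [← hP x hb, ← hP' x ha, hval x (gA x) (gB x) (hgA x ha) (hgB x hb) (hrow x)]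
      ring
    exact sub_eq_zero.1 ((mul_eq_zero.1 h0).resolve_right (mul_ne_zero (MvPolynomial.X_ne_zero _) (MvPolynomial.X_ne_zero _)))
  obtain ⟨F, hF⟩ : Xb ^ N ∣ P := by
    have hp : Prime Xb := MvPolynomial.X_prime
    refine hp.pow_dvd_of_dvd_mul_right N ?_ (b := Xa ^ N') ⟨P', by rw [heq, mul_comm]⟩
    intro h
    have h1 : Xb ∣ Xa := hp.dvd_of_dvd_pow h
    rw [MvPolynomial.X_dvd_X] at h1
    rcases h1 with h1 | h1 <;> simp at h1
  have hF' : P' = F * Xa ^ N' := by
    have : P' * Xb ^ N = F * Xa ^ N' * Xb ^ N := by rw [← heq, hF]; ring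
    exact mul_right_cancel₀ (pow_ne_zero _ (MvPolynomial.X_ne_zero _)) this
  have hkey : ∀ (x : ι ⊕ Fin 2 → k) (g : Matrix (Fin 2) (Fin 2) k) (hg : g.det = 1), g 1 = x ∘ Sum.inr →
      MvPolynomial.eval x F = val x g hg := by
    intro x g hg hr
    by_cases hb : x (Sum.inr 1) = 0
    · have ha : x (Sum.inr 0) ≠ 0 := fun ha => by
        have h0 : g 1 0 = 0 := (congrFun hr 0).trans ha
        have h1 : g 1 1 = 0 := (congrFun hr 1).trans hb
        rw [Matrix.det_fin_two, h0, h1] at hg
        simp at hg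
      have h1 := hP' x ha
      rw [hF', map_mul, map_pow, MvPolynomial.eval_X] at h1
      rw [← mul_right_cancel₀ (pow_ne_zero _ ha) h1]
      exact hval x (gA x) g (hgA x ha) hg (by rw [hr]; funext a; fin_cases a <;> rfl)
    · have h1 := hP x hb
      rw [hF, map_mul, map_pow, MvPolynomial.eval_X, mul_comm (x (Sum.inr 1) ^ N)] at h1
      rw [← mul_right_cancel₀ (pow_ne_zero _ hb) h1]
      exact hval x (gB x) g (hgB x hb) hg (by rw [hr]; funext a; fin_cases a <;> rfl)
  refine ⟨F, fun h hh => ?_, fun w => ?_⟩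
  · let act : MvPolynomial (ι ⊕ Fin 2) k →ₐ[k] MvPolynomial (ι ⊕ Fin 2) k :=
      subst (Matrix.fromBlocks (Qpt Q h hh) 0 0 h)
    have hact : ∀ x, MvPolynomial.eval x (act F) =
        MvPolynomial.eval (Sum.elim ((x ∘ Sum.inl) ᵥ* Qpt Q h hh) ((x ∘ Sum.inr) ᵥ* h)) F := fun x => by
      rw [eval_subst, Matrix.vecMul_fromBlocks]
      simp
    have h0 : (act F - F) * (Xa * Xb) = 0 := by
      refine MvPolynomial.funext fun x => ?_
      by_cases hb : x (Sum.inr 1) = 0
      · simp [Xb, hb]
      rw [map_mul, map_sub, hact, map_zero]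
      have e1 : gB x * h = gB x * h := rfl
      have hd : (gB x * h).det = 1 := by rw [Matrix.det_mul, hgB x hb, hh, one_mul]
      rw [hkey _ (gB x * h) hd (by
          funext a
          simp only [Matrix.mul_apply, Function.comp_apply, Sum.elim_inr, Matrix.vecMul, dotProduct]
          exact Finset.sum_congr rfl fun b _ => by fin_cases b <;> rfl),
        hkey x (gB x) (hgB x hb) (by funext a; fin_cases a <;> rfl)]
      have e : val (Sum.elim ((x ∘ Sum.inl) ᵥ* Qpt Q h hh) ((x ∘ Sum.inr) ᵥ* h)) (gB x * h) hd = val x (gB x) (hgB x hb) := by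
        simp only [val, Sum.elim_comp_inl]
        rw [Matrix.vecMul_vecMul]
        simp only [Qpt]
        rw [map_pt_mul hQ]
        congr 3
        simp only [Matrix.adjugate_mul_distrib, ← Matrix.mul_assoc, Matrix.mul_adjugate, hh, one_smul, one_mul]
      rw [e, sub_self, zero_mul]
    intro x
    rw [← hact, sub_eq_zero.1 ((mul_eq_zero.1 h0).resolve_right
      (mul_ne_zero (MvPolynomial.X_ne_zero _) (MvPolynomial.X_ne_zero _)))]
  · rw [hkey (Sum.elim w ![0, 1]) 1 Matrix.det_one (by funext a; fin_cases a <;> simp [Matrix.one_apply])]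
    simp only [val, Sum.elim_comp_inl, Matrix.adjugate_one, Qpt]
    rw [map_pt_one hQ, Matrix.vecMul_one]

end

end Groth.Agent.H66.Weitz
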