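import Groth.Agent.H66.Weitz.Inv
import Groth.Agent.S3275
import Mathlib

/-! The kernel of a linear locally nilpotent derivation is finitely generated (characteristic zero). -/

set_option autoImplicit false
set_option linter.unusedSectionVars false
set_option linter.style.haveILetI false
universe u

namespace Groth.Agent.H66.Weitz

open CoordGrp Matrix TensorProduct

noncomputable section

variable {k : Type u} [Field k] {L : ℕ} {Q : Matrix (Fin L) (Fin L) (SLn 2 k)}

/-- The bialgebra map of a matrix comodule. -/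
def matHom (hQ : H66.MatComod.IsMat k Q) : Mat L k →ₐc[k] SLn 2 k :=
  BialgHom.ofAlgHom (Mat.aeval L k Q)
    (Mat.algHom_ext fun i j => by
      rw [AlgHom.comp_apply, Mat.aeval_X, Bialgebra.counitAlgHom_apply, Bialgebra.counitAlgHom_apply, Mat.counit_X,
        hQ.2])
    (Mat.algHom_ext fun i j => by
      rw [AlgHom.comp_apply, AlgHom.comp_apply, Mat.aeval_X, Bialgebra.comulAlgHom_apply, Bialgebra.comulAlgHom_apply,
        Mat.comul_X, hQ.1, map_sum]
      exact Finset.sum_congr rfl fun l _ => by simp)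

/-- The coaction on polynomials. -/
@[reducible] def polyComod (hQ : H66.MatComod.IsMat k Q) : HopfRep.Comod k (SLn 2 k) (MvPolynomial (Fin L) k) :=
  GLin.comodAlong (matHom hQ) (CoordGrp.stdCoact L k)

variable (Q) in
/-- The coaction on polynomials as an algebra map. -/
def polyCoact : MvPolynomial (Fin L) k →ₐ[k] MvPolynomial (Fin L) k ⊗[k] SLn 2 k :=
  (Algebra.TensorProduct.map (AlgHom.id k _) (Mat.aeval L k Q)).comp (CoordGrp.stdCoactAlg L k)

theorem polyComod_coact (hQ : H66.MatComod.IsMat k Q) (f : MvPolynomial (Fin L) k) :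
    (polyComod hQ).coact f = polyCoact Q f := rfl

theorem polyCoact_X (i : Fin L) :
    polyCoact Q (MvPolynomial.X i) = ∑ j, MvPolynomial.X j ⊗ₜ[k] Q j i := by
  simp [polyCoact]

/-- Evaluation at a point of affine space and a point of the group. -/
def evalPt (x : Fin L → k) (M : Matrix (Fin 2) (Fin 2) k) (hM : M.det = 1) :
    MvPolynomial (Fin L) k ⊗[k] SLn 2 k →ₐ[k] k :=
  Algebra.TensorProduct.productMap (MvPolynomial.aeval x) (SLn.pt 2 k M hM)

theorem evalPt_coact (x : Fin L → k) (M : Matrix (Fin 2) (Fin 2) k) (hM : M.det = 1) (f : MvPolynomial (Fin L) k) :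
    evalPt x M hM (polyCoact Q f) = MvPolynomial.eval (x ᵥ* Qpt Q M hM) f := by
  rw [← AlgHom.comp_apply, ← MvPolynomial.coe_aeval_eq_eval]
  show ((evalPt x M hM).comp (polyCoact Q)) f = MvPolynomial.aeval (x ᵥ* Qpt Q M hM) f
  congr 1
  refine MvPolynomial.algHom_ext fun i => ?_
  simp [evalPt, polyCoact_X, Matrix.vecMul, dotProduct]

theorem eq_of_evalPt [IsAlgClosed k] [CharZero k] (z z' : MvPolynomial (Fin L) k ⊗[k] SLn 2 k)
    (h : ∀ x M hM, evalPt x M hM z = evalPt x M hM z') : z = z' := by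
  haveI : Algebra.FiniteType k (SLn 2 k) :=
    Algebra.FiniteType.of_surjective (MvPolynomial.aeval fun p : Fin 2 × Fin 2 => (SLn.X p.1 p.2 : SLn 2 k)) fun a => by
      obtain ⟨e, q, rfl⟩ := H66.GLnLR.sl_span (n := 2) (k := k) a
      exact ⟨q, by simp⟩
  haveI : IsReduced (SLn 2 k) := Lib.Comod.Cartier.isReduced (k := k)
  rw [← sub_eq_zero]
  have hb := MvPolynomial.basisMonomials (Fin L) k
  apply (TensorProduct.equivFinsuppOfBasisLeft (MvPolynomial.basisMonomials (Fin L) k) (N := SLn 2 k)).injective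
  rw [map_zero]
  refine Finsupp.ext fun m => ?_
  rw [Finsupp.zero_apply]
  refine Lib.Hopf.Points.eq_zero_of_forall_point_eq_zero (k := k) fun g => ?_
  -- the point is given by a matrix
  let M : Matrix (Fin 2) (Fin 2) k := fun i j => g (SLn.X i j)
  have hM : M.det = 1 := by
    have h1 := congrArg g (SLn.det_eq_one (n := 2) (k := k))
    rw [map_one] at h1
    rw [← h1, GLn.det, ← AlgHom.comp_apply, ← AlgHom.comp_apply, GLb.det, AlgHom.map_det]
    rfl
  have hg : g = SLn.pt 2 k M hM := algHom_ext' fun i j => by rw [SLn.pt_X]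
  have key : ∀ y : MvPolynomial (Fin L) k ⊗[k] SLn 2 k,
      g (TensorProduct.equivFinsuppOfBasisLeft (MvPolynomial.basisMonomials (Fin L) k) y m) =
        MvPolynomial.coeff m (TensorProduct.rid k _ (g.toLinearMap.lTensor _ y)) := by
    intro y
    induction y using TensorProduct.induction_on with
    | zero => simp
    | add p q hp hq => simp only [map_add, Finsupp.add_apply, MvPolynomial.coeff_add, hp, hq]
    | tmul p q =>
      rw [TensorProduct.equivFinsuppOfBasisLeft_apply_tmul_apply]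
      simp [MvPolynomial.basisMonomials, MvPolynomial.coeff_smul, mul_comm]
      left; rfl
  rw [key, MvPolynomial.ext_iff.1 (?_ : TensorProduct.rid k _ (g.toLinearMap.lTensor _ (z - z')) = 0) m]
  · rfl
  refine MvPolynomial.funext fun x => ?_
  have e : ∀ y, MvPolynomial.eval x (TensorProduct.rid k _ (g.toLinearMap.lTensor _ y)) = evalPt x M hM y := by
    intro y
    induction y using TensorProduct.induction_on with
    | zero => simp
    | add p q hp hq => simp only [map_add, hp, hq]
    | tmul p q => simp [evalPt, ← hg, MvPolynomial.coe_aeval_eq_eval, mul_comm]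
  rw [e, map_sub, h, sub_self, map_zero]

theorem fg_ker [IsAlgClosed k] [CharZero k] (n : ℕ) (M : Matrix (Fin n) (Fin n) k) (hM : IsNilpotent M) :
    ∃ S : Subalgebra k (MvPolynomial (Fin n) k), S.FG ∧ ∀ f, f ∈ S ↔ der M f = 0 := by
  classical
  obtain ⟨ι, _, _, N, i, r, hN, hiM, hMr, hri⟩ :=
    exists_summand (models (k := k)) _ (Fin n → k) (Matrix.toLinAlgEquiv' M) (hM.map _) le_rfl
  obtain ⟨Q, hQ, rfl⟩ := hN
  let iA : Matrix ι (Fin n) k := LinearMap.toMatrix' i
  let rA : Matrix (Fin n) ι k := LinearMap.toMatrix' r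
  have hiA : iA * M = Nm Q * iA := by
    have h := congrArg LinearMap.toMatrix' hiM
    rw [LinearMap.toMatrix'_comp, LinearMap.toMatrix'_comp, ← Matrix.toLin'_apply', LinearMap.toMatrix'_toLin'] at h
    rwa [show LinearMap.toMatrix' (Matrix.toLinAlgEquiv' M) = M from LinearMap.toMatrix'_toLin' M] at h
  have hrA : M * rA = rA * Nm Q := by
    have h := congrArg LinearMap.toMatrix' hMr
    rw [LinearMap.toMatrix'_comp, LinearMap.toMatrix'_comp, ← Matrix.toLin'_apply', LinearMap.toMatrix'_toLin'] at h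
    rwa [show LinearMap.toMatrix' (Matrix.toLinAlgEquiv' M) = M from LinearMap.toMatrix'_toLin' M] at h
  have hri' : rA * iA = 1 := by
    rw [← LinearMap.toMatrix'_comp, hri, LinearMap.toMatrix'_id]
  -- index the variables and the vector
  let e := Fintype.equivFin (ι ⊕ Fin 2)
  let P : Matrix (Fin 2) (Fin 2) (SLn 2 k) := fun i j => SLn.X i j
  let Q' := Matrix.reindex e e (Matrix.fromBlocks Q 0 0 P)
  have hQ' : H66.MatComod.IsMat k Q' :=
    isMat_reindex (isMat_fromBlocks hQ (H66.GLnLR.isMat_sl (k := k) (n := 2))) e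
  have hact : ∀ (x : Fin (Fintype.card (ι ⊕ Fin 2)) → k) (h : Matrix (Fin 2) (Fin 2) k) (hh : h.det = 1),
      (x ᵥ* Qpt Q' h hh) ∘ e =
        Sum.elim (((x ∘ e) ∘ Sum.inl) ᵥ* Qpt Q h hh) (((x ∘ e) ∘ Sum.inr) ᵥ* h) := by
    intro x h hh
    have hb : (Matrix.fromBlocks Q 0 0 P).map (SLn.pt 2 k h hh) = Matrix.fromBlocks (Qpt Q h hh) 0 0 h := by
      rw [Matrix.fromBlocks_map, Matrix.map_zero _ (map_zero _), Matrix.map_zero _ (map_zero _)]
      congr 1
      ext a b
      simp [P, SLn.pt_X]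
    funext a
    show ∑ b, x b * SLn.pt 2 k h hh ((Matrix.fromBlocks Q 0 0 P) (e.symm b) (e.symm (e a))) = _
    rw [e.symm_apply_apply, ← e.sum_comp]
    simp only [e.symm_apply_apply]
    rcases a with a | a
    · simp [Qpt, Matrix.vecMul, dotProduct, Fintype.sum_sum_type]
    · simp [Qpt, P, Matrix.vecMul, dotProduct, Fintype.sum_sum_type, SLn.pt_X]
  letI := polyComod hQ'
  have hmul : ∀ f g : MvPolynomial (Fin (Fintype.card (ι ⊕ Fin 2))) k,
      HopfRep.Comod.coact (k := k) (A := SLn 2 k) (f * g) =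
        HopfRep.Comod.coact (k := k) (A := SLn 2 k) f * HopfRep.Comod.coact (k := k) (A := SLn 2 k) g :=
    fun f g => map_mul (polyCoact Q') f g
  haveI : Algebra.FiniteType k (SLn 2 k) :=
    Algebra.FiniteType.of_surjective (MvPolynomial.aeval fun p : Fin 2 × Fin 2 => (SLn.X p.1 p.2 : SLn 2 k)) fun a => by
      obtain ⟨e, q, rfl⟩ := H66.GLnLR.sl_span (n := 2) (k := k) a
      exact ⟨q, by simp⟩
  obtain ⟨s, hs, hs'⟩ := S3275.result k (SLn 2 k) H66.GLnLR.isLinearlyReductive_SLn
    (Fintype.card (ι ⊕ Fin 2)) hmul (map_one (polyCoact Q')) (fun j => by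
      rw [show HopfRep.Comod.coact (k := k) (A := SLn 2 k) (MvPolynomial.X j) = polyCoact Q' (MvPolynomial.X j) from rfl,
        polyCoact_X]
      exact sum_mem fun l _ => ⟨(⟨_, Submodule.subset_span ⟨l, rfl⟩⟩ :
        Submodule.span k (Set.range (MvPolynomial.X : Fin (Fintype.card (ι ⊕ Fin 2)) → _))) ⊗ₜ[k]
          (⟨Q' l j, Submodule.mem_top⟩ : (⊤ : Submodule k (SLn 2 k))), by simp [TensorProduct.mapIncl]⟩)
  have hfix : ∀ F : MvPolynomial (Fin (Fintype.card (ι ⊕ Fin 2))) k,
      F ∈ HopfRep.fixedPts k (SLn 2 k) (MvPolynomial (Fin (Fintype.card (ι ⊕ Fin 2))) k) ↔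
        ∀ x h hh, MvPolynomial.eval (x ᵥ* Qpt Q' h hh) F = MvPolynomial.eval x F := by
    intro F
    show polyCoact Q' F = F ⊗ₜ[k] (1 : SLn 2 k) ↔ _
    constructor
    · intro hF x h hh
      rw [← evalPt_coact, hF]
      simp [evalPt, MvPolynomial.coe_aeval_eq_eval]
    · intro hF
      refine eq_of_evalPt _ _ fun x h hh => ?_
      rw [evalPt_coact, hF]
      simp [evalPt, MvPolynomial.coe_aeval_eq_eval]
  -- restriction to the slice
  let σ : MvPolynomial (Fin (Fintype.card (ι ⊕ Fin 2))) k →ₐ[k] MvPolynomial ι k :=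
    MvPolynomial.aeval fun l => Sum.elim (MvPolynomial.X : ι → MvPolynomial ι k)
      (fun a => MvPolynomial.C (![0, 1] a)) (e.symm l)
  have hσ : ∀ (w : ι → k) F, MvPolynomial.eval w (σ F) = MvPolynomial.eval (Sum.elim w ![0, 1] ∘ e.symm) F := by
    intro w F
    rw [← MvPolynomial.coe_aeval_eq_eval, ← MvPolynomial.coe_aeval_eq_eval]
    show ((MvPolynomial.aeval w).comp σ) F = MvPolynomial.aeval (Sum.elim w ![0, 1] ∘ e.symm) F
    congr 1
    refine MvPolynomial.algHom_ext fun l => ?_
    simp only [AlgHom.comp_apply, σ, MvPolynomial.aeval_X, Function.comp_apply]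
    rcases e.symm l with a | a <;> simp
  let Φ := (subst rA).comp σ
  refine ⟨(Algebra.adjoin k (s : Set (MvPolynomial (Fin (Fintype.card (ι ⊕ Fin 2))) k))).map Φ,
    Subalgebra.FG.map _ (Subalgebra.fg_adjoin_finset s), fun f => ⟨?_, fun hf => ?_⟩⟩
  · rintro ⟨F, hF, rfl⟩
    have hF' : F ∈ HopfRep.fixedPts k (SLn 2 k) (MvPolynomial (Fin (Fintype.card (ι ⊕ Fin 2))) k) := by
      refine Algebra.adjoin_induction (fun x hx => hs x hx) (fun a => ?_) (fun a b _ _ ha hb => Submodule.add_mem _ ha hb)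
        (fun a b _ _ ha hb => ?_) hF
      · show polyCoact Q' (algebraMap k _ a) = _
        rw [AlgHom.commutes, Algebra.TensorProduct.algebraMap_apply]
      · show polyCoact Q' (a * b) = _
        rw [map_mul, show polyCoact Q' a = a ⊗ₜ[k] (1 : SLn 2 k) from ha,
          show polyCoact Q' b = b ⊗ₜ[k] (1 : SLn 2 k) from hb, Algebra.TensorProduct.tmul_mul_tmul, one_mul]
    show der M (subst rA (σ F)) = 0
    rw [der_subst rA (Nm Q) M hrA.symm, (der_eq_zero_iff hQ (σ F)).2 ?_, map_zero]
    intro c w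
    rw [hσ, hσ, ← (hfix F).1 hF' (Sum.elim w ![0, 1] ∘ e.symm) (uMat k c) (det_uMat c)]
    congr 1
    congr 1
    funext l
    obtain ⟨a, rfl⟩ := e.surjective l
    have := congrFun (hact (Sum.elim w ![0, 1] ∘ e.symm) (uMat k c) (det_uMat c)) a
    rw [Function.comp_apply] at this ⊢
    rw [this, e.symm_apply_apply]
    have hx : (Sum.elim w ![0, 1] ∘ e.symm) ∘ e = Sum.elim w ![0, 1] := by funext b; simp
    rw [hx, Sum.elim_comp_inl, Sum.elim_comp_inr]
    rcases a with a | a
    · rfl
    · fin_cases a <;> simp [uMat, Matrix.vecMul, dotProduct, Fin.sum_univ_two]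
  · have h1 : der (Nm Q) (subst iA f) = 0 := by rw [der_subst iA M (Nm Q) hiA, hf, map_zero]
    obtain ⟨F, hF, hFw⟩ := exists_extension hQ _ ((der_eq_zero_iff hQ _).1 h1)
    let F' := MvPolynomial.rename e F
    have hF' : F' ∈ HopfRep.fixedPts k (SLn 2 k) (MvPolynomial (Fin (Fintype.card (ι ⊕ Fin 2))) k) := by
      refine (hfix F').2 fun x h hh => ?_
      simp only [F', MvPolynomial.eval_rename, hact]
      exact hF h hh (x ∘ e)
    refine ⟨F', hs' F' hF', ?_⟩
    show subst rA (σ F') = f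
    have : σ F' = subst iA f := MvPolynomial.funext fun w => by
      rw [hσ]
      simp only [F', MvPolynomial.eval_rename]
      rw [show (Sum.elim w ![0, 1] ∘ e.symm) ∘ e = Sum.elim w ![0, 1] by funext b; simp, hFw]
    rw [this, subst_subst, hri', subst_one]

end

end Groth.Agent.H66.Weitz
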