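import Groth.Agent.H66.Weitz.Summand
import Groth.Agent.H66.GLnLR
import Mathlib

/-!
The unipotent one-parameter subgroup of `SL₂` and the nilpotent operators it defines on matrix
comodules.
-/

set_option autoImplicit false
set_option linter.unusedSectionVars false
universe u w

namespace Groth.Agent.H66.Weitz

open CoordGrp Matrix TensorProduct

noncomputable section

variable {k : Type u} [Field k]

variable (k) in
/-- The point `t ↦ (1 t; 0 1)`. -/
def Tc : SLn 2 k →ₐ[k] Polynomial k := SLn.pt 2 k !![1, Polynomial.X; 0, 1] (by simp [Matrix.det_fin_two])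

variable (k) in
/-- The tangent vector of `Tc`. -/
def D : SLn 2 k →ₗ[k] k := Polynomial.lcoeff k 1 ∘ₗ (Tc k).toLinearMap

theorem algHom_ext' {B : Type*} [CommRing B] [Algebra k B] {f g : SLn 2 k →ₐ[k] B}
    (h : ∀ i j : Fin 2, f (SLn.X i j) = g (SLn.X i j)) : f = g := by
  refine SLn.algHom_ext (fun i j => h i j) ?_
  have hD : SLn.mk 2 k (GLn.Dinv : GLn 2 k) = 1 := by
    have h := congrArg (SLn.mk 2 k) (GLn.Dinv_mul_det (n := 2) (k := k))
    rwa [map_mul, SLn.det_eq_one, mul_one, map_one] at h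
  rw [hD, map_one, map_one]

/-- Products of points are products of matrices. -/
theorem pt_mul {B : Type*} [CommRing B] [Algebra k B] (M N : Matrix (Fin 2) (Fin 2) B) (hM : M.det = 1) (hN : N.det = 1) :
    (Algebra.TensorProduct.productMap (SLn.pt 2 k M hM) (SLn.pt 2 k N hN)).comp (Bialgebra.comulAlgHom k (SLn 2 k)) =
      SLn.pt 2 k (M * N) (by rw [Matrix.det_mul, hM, hN, one_mul]) := by
  refine algHom_ext' fun i j => ?_
  rw [AlgHom.comp_apply, Bialgebra.comulAlgHom_apply, (H66.GLnLR.isMat_sl (k := k) (n := 2)).1 i j, map_sum,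
    SLn.pt_X, Matrix.mul_apply]
  exact Finset.sum_congr rfl fun l _ => by simp

variable {ι : Type} [Fintype ι] [DecidableEq ι]

/-- The matrices of a matrix comodule at two points multiply. -/
theorem map_pt_mul {Q : Matrix ι ι (SLn 2 k)} (hQ : H66.MatComod.IsMat k Q) {B : Type*} [CommRing B] [Algebra k B]
    (M N : Matrix (Fin 2) (Fin 2) B) (hM : M.det = 1) (hN : N.det = 1) :
    Q.map (SLn.pt 2 k M hM) * Q.map (SLn.pt 2 k N hN) = Q.map (SLn.pt 2 k (M * N) (by rw [Matrix.det_mul, hM, hN, one_mul])) := by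
  ext i j
  rw [← pt_mul M N hM hN, Matrix.map_apply, AlgHom.comp_apply, Bialgebra.comulAlgHom_apply, hQ.1, map_sum,
    Matrix.mul_apply]
  exact Finset.sum_congr rfl fun l _ => by simp

theorem map_pt_one {Q : Matrix ι ι (SLn 2 k)} (hQ : H66.MatComod.IsMat k Q) {B : Type*} [CommRing B] [Algebra k B]
    (h : (1 : Matrix (Fin 2) (Fin 2) B).det = 1) : Q.map (SLn.pt 2 k 1 h) = 1 := by
  have e : SLn.pt 2 k (1 : Matrix (Fin 2) (Fin 2) B) h = (Algebra.ofId k B).comp (Bialgebra.counitAlgHom k (SLn 2 k)) := by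
    refine algHom_ext' fun i j => ?_
    rw [SLn.pt_X, AlgHom.comp_apply, Bialgebra.counitAlgHom_apply, (H66.GLnLR.isMat_sl (k := k) (n := 2)).2 i j,
      Matrix.one_apply]
    split <;> simp
  ext i j
  rw [e, Matrix.map_apply, AlgHom.comp_apply, Bialgebra.counitAlgHom_apply, hQ.2, Matrix.one_apply]
  split <;> simp

theorem comp_pt {B C : Type*} [CommRing B] [Algebra k B] [CommRing C] [Algebra k C] (f : B →ₐ[k] C)
    (M : Matrix (Fin 2) (Fin 2) B) (hM : M.det = 1) :
    f.comp (SLn.pt 2 k M hM) =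
      SLn.pt 2 k (M.map f) (by rw [← AlgHom.mapMatrix_apply, ← AlgHom.map_det, hM, map_one]) := by
  refine algHom_ext' fun i j => ?_
  simp [SLn.pt_X]

theorem coeff_zero_Tc (a : SLn 2 k) : (Tc k a).coeff 0 = CoalgebraStruct.counit (R := k) a := by
  have e : (Polynomial.aeval (0 : k)).comp (Tc k) = Bialgebra.counitAlgHom k (SLn 2 k) := by
    refine algHom_ext' fun i j => ?_
    rw [AlgHom.comp_apply, Tc, SLn.pt_X, Bialgebra.counitAlgHom_apply, (H66.GLnLR.isMat_sl (k := k) (n := 2)).2 i j]
    fin_cases i <;> fin_cases j <;> simp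
  have := DFunLike.congr_fun e a
  simpa [Polynomial.coeff_zero_eq_eval_zero] using this

/-- `a ⊗ b ↦ D b • Tc a`. -/
def tauD : SLn 2 k ⊗[k] SLn 2 k →ₗ[k] Polynomial k :=
  (TensorProduct.rid k (Polynomial k)).toLinearMap ∘ₗ TensorProduct.map (Tc k).toLinearMap (D k)

@[simp] theorem tauD_tmul (a b : SLn 2 k) : tauD (a ⊗ₜ[k] b) = D k b • Tc k a := by simp [tauD]

theorem derivative_Tc (a : SLn 2 k) :
    Polynomial.derivative (Tc k a) = tauD (CoalgebraStruct.comul (R := k) a) := by
  let iC : Polynomial k →ₐ[k] Polynomial (Polynomial k) := Polynomial.mapAlgHom (Algebra.ofId k (Polynomial k))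
  let cC : Polynomial k →ₐ[k] Polynomial (Polynomial k) := Polynomial.CAlgHom
  let L : SLn 2 k →ₐ[k] Polynomial (Polynomial k) :=
    ((Polynomial.taylorAlgHom (R := Polynomial k) Polynomial.X).restrictScalars k).comp (iC.comp (Tc k))
  let R : SLn 2 k →ₐ[k] Polynomial (Polynomial k) :=
    (Algebra.TensorProduct.productMap (cC.comp (Tc k)) (iC.comp (Tc k))).comp (Bialgebra.comulAlgHom k (SLn 2 k))
  have hLR : L = R := by
    simp only [L, R]
    unfold Tc
    rw [comp_pt, comp_pt, comp_pt, pt_mul]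
    refine algHom_ext' fun i j => ?_
    rw [SLn.pt_X, SLn.pt_X, Matrix.mul_apply, Fin.sum_univ_two]
    fin_cases i <;> fin_cases j <;> simp [iC, cC, add_comm]
  have h := congrArg (fun p => p.coeff 1) (DFunLike.congr_fun hLR a)
  have hl : (L a).coeff 1 = Polynomial.derivative (Tc k a) := by
    show (Polynomial.taylor Polynomial.X ((Tc k a).map (algebraMap k (Polynomial k)))).coeff 1 = _
    rw [Polynomial.taylor_coeff_one, Polynomial.derivative_map, Polynomial.eval_map, ← Polynomial.aeval_def,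
      Polynomial.aeval_X_left, AlgHom.id_apply]
  have hr : (R a).coeff 1 = tauD (CoalgebraStruct.comul (R := k) a) := by
    simp only [R, AlgHom.comp_apply, Bialgebra.comulAlgHom_apply]
    generalize CoalgebraStruct.comul (R := k) a = z
    induction z using TensorProduct.induction_on with
    | zero => simp
    | add x y hx hy => simp only [map_add, Polynomial.coeff_add, hx, hy]
    | tmul x y =>
      rw [Algebra.TensorProduct.productMap_apply_tmul, tauD_tmul]
      show (Polynomial.C (Tc k x) * (Tc k y).map (algebraMap k (Polynomial k))).coeff 1 = _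
      rw [Polynomial.coeff_C_mul, Polynomial.coeff_map, Algebra.smul_def, mul_comm]
      rfl
  rwa [hl, hr] at h

variable (Q : Matrix ι ι (SLn 2 k))

/-- The matrix of `Tc` in a matrix comodule. -/
abbrev Mc : Matrix ι ι (Polynomial k) := Q.map (Tc k)

/-- The nilpotent operator of a matrix comodule. -/
abbrev Nm : Matrix ι ι k := Q.map (D k)

variable {Q} (hQ : H66.MatComod.IsMat k Q)
include hQ

theorem derivative_Mc (i j : ι) :
    Polynomial.derivative (Mc Q i j) = (Mc Q * (Nm Q).map Polynomial.C) i j := by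
  rw [Mc, Matrix.map_apply, derivative_Tc, hQ.1, map_sum, Matrix.mul_apply]
  exact Finset.sum_congr rfl fun l _ => by simp [Nm, Algebra.smul_def, mul_comm]

theorem eval_zero_Mc (i j : ι) : (Mc Q i j).eval 0 = (1 : Matrix ι ι k) i j := by
  rw [← Polynomial.coeff_zero_eq_eval_zero, Mc, Matrix.map_apply, coeff_zero_Tc, hQ.2, Matrix.one_apply]

theorem iterate_derivative_Mc (r : ℕ) :
    (Mc Q).map (Polynomial.derivative^[r]) = Mc Q * ((Nm Q) ^ r).map Polynomial.C := by
  induction r with
  | zero => simp [Matrix.map_one]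
  | succ r ih =>
    ext1 i j
    have h := congrFun (congrFun ih i) j
    rw [Matrix.map_apply] at h
    rw [Matrix.map_apply, Function.iterate_succ_apply', h, Matrix.mul_apply, map_sum]
    have e1 : ((Nm Q) ^ (r + 1)).map Polynomial.C = (Nm Q).map Polynomial.C * ((Nm Q) ^ r).map Polynomial.C := by
      rw [pow_succ', Matrix.map_mul]
    rw [e1, ← Matrix.mul_assoc, Matrix.mul_apply]
    refine Finset.sum_congr rfl fun l _ => ?_
    rw [Matrix.map_apply, Polynomial.derivative_mul, Polynomial.derivative_C, mul_zero, add_zero, derivative_Mc hQ]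

theorem eval_iterate_derivative_Mc (r : ℕ) (i j : ι) :
    (Polynomial.derivative^[r] (Mc Q i j)).eval 0 = ((Nm Q) ^ r) i j := by
  have h := congrFun (congrFun (iterate_derivative_Mc hQ r) i) j
  rw [Matrix.map_apply] at h
  rw [h, Matrix.mul_apply, Polynomial.eval_finsetSum]
  conv_rhs => rw [← one_mul ((Nm Q) ^ r), Matrix.mul_apply]
  refine Finset.sum_congr rfl fun l _ => ?_
  show Polynomial.eval 0 (Mc Q i l * Polynomial.C (((Nm Q) ^ r) l j)) = _
  rw [Polynomial.eval_mul, Polynomial.eval_C, eval_zero_Mc hQ]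

omit hQ

theorem isMat_fromBlocks {κ : Type} [Fintype κ] [DecidableEq κ] {Q : Matrix ι ι (SLn 2 k)} {Q' : Matrix κ κ (SLn 2 k)}
    (hQ : H66.MatComod.IsMat k Q) (hQ' : H66.MatComod.IsMat k Q') :
    H66.MatComod.IsMat k (Matrix.fromBlocks Q 0 0 Q') := by
  constructor
  · rintro (i | i) (j | j) <;> simp [Fintype.sum_sum_type, hQ.1, hQ'.1]
  · rintro (i | i) (j | j) <;> simp [hQ.2, hQ'.2]

theorem isMat_reindex {κ : Type} [Fintype κ] [DecidableEq κ] {Q : Matrix ι ι (SLn 2 k)}
    (hQ : H66.MatComod.IsMat k Q) (e : ι ≃ κ) : H66.MatComod.IsMat k (Matrix.reindex e e Q) := by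
  refine ⟨fun i j => ?_, fun i j => ?_⟩
  · simp only [Matrix.reindex_apply, Matrix.submatrix_apply, hQ.1]
    exact Fintype.sum_equiv e _ _ fun l => by simp
  · simp only [Matrix.reindex_apply, Matrix.submatrix_apply, hQ.2, e.symm.injective.eq_iff]

variable [CharZero k]

/-- The models: nilpotent operators of matrix comodules. -/
def models : Models k where
  ok ι _ _ N := ∃ Q : Matrix ι ι (SLn 2 k), H66.MatComod.IsMat k Q ∧ Nm Q = N
  ok_empty := ⟨0, ⟨fun i => Fin.elim0 i, fun i => Fin.elim0 i⟩, Subsingleton.elim _ _⟩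
  ok_sum := by
    rintro ι κ _ _ _ _ _ _ ⟨Q, hQ, rfl⟩ ⟨Q', hQ', rfl⟩
    refine ⟨_, isMat_fromBlocks hQ hQ', ?_⟩
    rw [Nm, Matrix.fromBlocks_map, Matrix.map_zero _ (map_zero _), Matrix.map_zero _ (map_zero _)]
  ok_order d := by
    let P : Matrix (Fin 2) (Fin 2) (SLn 2 k) := fun i j => SLn.X i j
    let Q := H66.MatComod.pw P d
    have hQ : H66.MatComod.IsMat k Q := H66.MatComod.isMat_pw (H66.GLnLR.isMat_sl (k := k) (n := 2)) d
    refine ⟨Fin d → Fin 2, inferInstance, inferInstance, Nm Q, ⟨Q, hQ, rfl⟩, ?_, ?_⟩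
    · ext i j
      rw [← eval_iterate_derivative_Mc hQ, Matrix.zero_apply, Polynomial.iterate_derivative_eq_zero,
        Polynomial.eval_zero]
      refine lt_of_le_of_lt ?_ (Nat.lt_succ_self d)
      rw [Mc, H66.MatComod.pw_map]
      refine (Polynomial.natDegree_prod_le _ _).trans ((Finset.sum_le_card_nsmul _ _ 1 fun a _ => ?_).trans (by simp))
      rw [Tc, SLn.pt_X]
      generalize i a = x, j a = y
      fin_cases x <;> fin_cases y <;> simp [Polynomial.natDegree_X_le]
    · intro h
      have := congrFun (congrFun h (fun _ => (0 : Fin 2))) (fun _ => 1)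
      rw [← eval_iterate_derivative_Mc hQ, Mc, H66.MatComod.pw_map, Matrix.zero_apply] at this
      simp [P, Tc, Polynomial.iterate_derivative_X_pow_eq_natCast_mul, Nat.descFactorial_self,
        Nat.factorial_ne_zero] at this

end

end Groth.Agent.H66.Weitz
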