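import Groth.Agent.H66.MatComod
import Mathlib

/-!
A nilpotent endomorphism is a direct summand of any class of models which is closed under sums and
contains, for every `d`, a nilpotent endomorphism of exact order `d + 1`.
-/

set_option autoImplicit false
set_option linter.unusedSectionVars false
universe u v w

namespace Groth.Agent.H66.Weitz

open Matrix

noncomputable section

variable {k : Type u} [Field k]

/-- The shift on `k^(d+1)`. -/
def shift (d : ℕ) : (Fin (d + 1) → k) →ₗ[k] (Fin (d + 1) → k) where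
  toFun f j := if h : (j : ℕ) + 1 < d + 1 then f ⟨j + 1, h⟩ else 0
  map_add' f g := by ext j; simp only [Pi.add_apply]; split <;> simp
  map_smul' c f := by ext j; simp only [Pi.smul_apply, smul_eq_mul, RingHom.id_apply]; split <;> simp

variable {V : Type v} [AddCommGroup V] [Module k V] (M : Module.End k V)

theorem exists_block (d : ℕ) (hd : M ^ (d + 1) = 0) {w : V} (hw : (M ^ d) w ≠ 0) :
    ∃ (i : (Fin (d + 1) → k) →ₗ[k] V) (r : V →ₗ[k] (Fin (d + 1) → k)),
      i ∘ₗ shift d = M ∘ₗ i ∧ r ∘ₗ M = shift d ∘ₗ r ∧ r ∘ₗ i = LinearMap.id := by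
  obtain ⟨φ, hφ⟩ := Module.Projective.exists_dual_ne_zero k hw
  let ψ : V →ₗ[k] (Fin (d + 1) → k) := LinearMap.pi fun j => φ ∘ₗ (M ^ (j : ℕ))
  let ι : (Fin (d + 1) → k) →ₗ[k] V := Fintype.linearCombination k fun j => (M ^ (d - (j : ℕ))) w
  have hψ : ψ ∘ₗ M = shift d ∘ₗ ψ := by
    refine LinearMap.ext fun x => funext fun j => ?_
    simp only [LinearMap.comp_apply, shift, LinearMap.coe_mk, AddHom.coe_mk, ψ, LinearMap.pi_apply]
    split
    · rw [pow_succ, Module.End.mul_apply]
    · rename_i h
      have hj : (j : ℕ) + 1 = d + 1 := by omega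
      rw [← Module.End.mul_apply, ← pow_succ, hj, hd, LinearMap.zero_apply, map_zero]
  have hι : ι ∘ₗ shift d = M ∘ₗ ι := by
    refine LinearMap.pi_ext fun l c => ?_
    simp only [LinearMap.comp_apply, ι, Fintype.linearCombination_apply_single, map_smul]
    rw [← Module.End.mul_apply, ← pow_succ']
    rcases Nat.eq_zero_or_pos (l : ℕ) with h0 | h0
    · rw [h0, Nat.sub_zero, hd, LinearMap.zero_apply, smul_zero]
      rw [show shift d (Pi.single l c) = 0 from funext fun j => by
        simp only [shift, LinearMap.coe_mk, AddHom.coe_mk, Pi.zero_apply]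
        split
        · rw [Pi.single_eq_of_ne]
          intro he
          have := congrArg Fin.val he
          simp at this; omega
        · rfl]
      simp
    · let l' : Fin (d + 1) := ⟨(l : ℕ) - 1, by omega⟩
      rw [show shift d (Pi.single l c) = Pi.single l' c from funext fun j => by
        simp only [shift, LinearMap.coe_mk, AddHom.coe_mk]
        by_cases hj : j = l'
        · subst hj
          have hlt : (l : ℕ) - 1 + 1 < d + 1 := by omega
          rw [dif_pos hlt, Pi.single_eq_same,
            show (⟨(l : ℕ) - 1 + 1, hlt⟩ : Fin (d + 1)) = l from Fin.ext (by simp only; omega), Pi.single_eq_same]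
        · rw [Pi.single_eq_of_ne hj]
          split
          · rw [Pi.single_eq_of_ne]
            intro he
            have := congrArg Fin.val he
            exact hj (Fin.ext (by simp [l'] at this ⊢; omega))
          · rfl]
      simp only [Fintype.linearCombination_apply_single, l']
      rw [show d - ((l : ℕ) - 1) = d - (l : ℕ) + 1 by omega]
  let T : Module.End k (Fin (d + 1) → k) := ψ ∘ₗ ι
  have hT : T ∘ₗ shift d = shift d ∘ₗ T := by
    rw [LinearMap.comp_assoc, hι, ← LinearMap.comp_assoc, hψ, LinearMap.comp_assoc]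
  have hinj : Function.Injective T := by
    refine (injective_iff_map_eq_zero T).2 fun f hf => funext fun j => ?_
    -- downwards induction on the index
    induction' hm : d - (j : ℕ) using Nat.strong_induction_on with m ih generalizing j
    by_contra hne
    have h0 := congrFun hf j
    simp only [T, ψ, ι, LinearMap.comp_apply, LinearMap.pi_apply, Fintype.linearCombination_apply, map_sum,
      map_smul, Pi.zero_apply] at h0
    rw [Finset.sum_eq_single j] at h0
    · rw [← Module.End.mul_apply, ← pow_add, show (j : ℕ) + (d - (j : ℕ)) = d by omega, smul_eq_mul] at h0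
      exact (mul_ne_zero hne hφ) h0
    · intro l _ hlj
      by_cases hl : (j : ℕ) < l
      · rw [ih _ (by omega) l rfl]; simp
      · have hl' : (l : ℕ) < j := lt_of_le_of_ne (not_lt.1 hl) fun e => hlj (Fin.ext e)
        rw [← Module.End.mul_apply, ← pow_add,
          show (j : ℕ) + (d - (l : ℕ)) = d + 1 + ((j : ℕ) - l - 1) by omega, pow_add, hd, zero_mul,
          LinearMap.zero_apply, map_zero, smul_zero]
    · simp
  let e : (Fin (d + 1) → k) ≃ₗ[k] (Fin (d + 1) → k) := LinearEquiv.ofInjectiveEndo T hinj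
  have he : ∀ x, e x = T x := fun x => rfl
  refine ⟨ι ∘ₗ e.symm.toLinearMap, ψ, ?_, hψ, ?_⟩
  · refine LinearMap.ext fun x => ?_
    simp only [LinearMap.comp_apply, LinearEquiv.coe_coe]
    have h1 : e.symm (shift d x) = shift d (e.symm x) := by
      refine e.injective ?_
      rw [e.apply_symm_apply, he]
      exact (congrArg (shift d) (e.apply_symm_apply x)).symm.trans
        ((LinearMap.congr_fun hT (e.symm x)).symm.trans rfl)
    rw [h1]
    exact LinearMap.congr_fun hι _
  · exact LinearMap.ext fun x => e.apply_symm_apply x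

/-- A class of models, closed under sums. -/
structure Models (k : Type u) [Field k] where
  ok : ∀ (ι : Type) [Fintype ι] [DecidableEq ι], Matrix ι ι k → Prop
  ok_empty : ok (Fin 0) 0
  ok_sum : ∀ (ι κ : Type) [Fintype ι] [DecidableEq ι] [Fintype κ] [DecidableEq κ] (P : Matrix ι ι k)
    (Q : Matrix κ κ k), ok ι P → ok κ Q → ok (ι ⊕ κ) (Matrix.fromBlocks P 0 0 Q)
  ok_order : ∀ d : ℕ, ∃ (ι : Type) (_ : Fintype ι) (_ : DecidableEq ι) (N : Matrix ι ι k),
    ok ι N ∧ N ^ (d + 1) = 0 ∧ N ^ d ≠ 0

theorem exists_summand (C : Models k) : ∀ (m : ℕ) (V : Type v) [AddCommGroup V] [Module k V] [FiniteDimensional k V]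
    (M : Module.End k V), IsNilpotent M → Module.finrank k V ≤ m →
    ∃ (ι : Type) (_ : Fintype ι) (_ : DecidableEq ι) (N : Matrix ι ι k) (i : V →ₗ[k] (ι → k)) (r : (ι → k) →ₗ[k] V),
      C.ok ι N ∧ i ∘ₗ M = N.mulVecLin ∘ₗ i ∧ M ∘ₗ r = r ∘ₗ N.mulVecLin ∧ r ∘ₗ i = LinearMap.id := by
  intro m
  induction m with
  | zero =>
    intro V _ _ _ M _ hV
    haveI : Subsingleton V := Module.finrank_zero_iff.1 (Nat.le_zero.1 hV)
    exact ⟨Fin 0, inferInstance, inferInstance, 0, 0, 0, C.ok_empty, LinearMap.ext fun _ => by simp,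
      LinearMap.ext fun _ => Subsingleton.elim _ _, LinearMap.ext fun _ => Subsingleton.elim _ _⟩
  | succ m ih =>
    intro V _ _ _ M hM hV
    rcases Nat.lt_or_ge (Module.finrank k V) (m + 1) with h | h
    · exact ih V M hM (Nat.lt_succ_iff.1 h)
    haveI : Nontrivial V := Module.nontrivial_of_finrank_pos (R := k) (lt_of_lt_of_le (Nat.succ_pos m) h)
    obtain ⟨d, hd, hd0⟩ : ∃ d, M ^ (d + 1) = 0 ∧ M ^ d ≠ 0 := by
      have hc := nilpotencyClass_eq_succ_iff (x := M) (k := nilpotencyClass M - 1)
      have hpos : 0 < nilpotencyClass M := pos_nilpotencyClass_iff.2 hM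
      exact ⟨nilpotencyClass M - 1, hc.1 (by omega)⟩
    obtain ⟨w, hw⟩ : ∃ w, (M ^ d) w ≠ 0 := by
      by_contra! h0
      exact hd0 (LinearMap.ext h0)
    obtain ⟨ib, rb, hib, hrb, hrib⟩ := exists_block M d hd hw
    obtain ⟨ιd, _, _, N, hN, hN1, hN0⟩ := C.ok_order d
    have hpw : ∀ j : ℕ, (N ^ j).mulVecLin = N.mulVecLin ^ j := fun j => by
      induction j with
      | zero => rw [pow_zero, pow_zero, Matrix.mulVecLin_one]; rfl
      | succ j ihj => rw [pow_succ, pow_succ, Matrix.mulVecLin_mul, ihj]; rfl
    obtain ⟨wd, hwd⟩ : ∃ w, (N.mulVecLin ^ d) w ≠ 0 := by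
      by_contra! h0
      refine hN0 (Matrix.toLin'.injective ?_)
      rw [map_zero]
      exact (hpw d).trans (LinearMap.ext h0)
    obtain ⟨id', rd, hid, hrd, hrid⟩ := exists_block N.mulVecLin d ((hpw _).symm.trans (by rw [hN1]; simp)) hwd
    -- the complement
    let K := LinearMap.ker rb
    let MK : Module.End k K := M.restrict fun x hx => by
      rw [LinearMap.mem_ker] at hx ⊢
      rw [← LinearMap.comp_apply, hrb, LinearMap.comp_apply, hx, map_zero]
    let pK : V →ₗ[k] K := (LinearMap.id - ib ∘ₗ rb).codRestrict K fun x => by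
      rw [LinearMap.mem_ker, LinearMap.sub_apply, map_sub, LinearMap.comp_apply, LinearMap.id_apply,
        show rb (ib (rb x)) = rb x from LinearMap.congr_fun hrib (rb x), sub_self]
    have hMK : IsNilpotent MK := by
      refine ⟨d + 1, LinearMap.ext fun x => Subtype.ext ?_⟩
      have hpow : ∀ (j : ℕ) (y : K), ((MK ^ j) y : V) = (M ^ j) y := fun j => by
        induction j with
        | zero => intro y; rfl
        | succ j ihj => intro y; rw [pow_succ', pow_succ', Module.End.mul_apply, Module.End.mul_apply, ← ihj]; rfl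
      rw [hpow, hd]
      rfl
    have hK : Module.finrank k K ≤ m := by
      have h1 := LinearMap.finrank_range_add_finrank_ker rb
      have hs : Function.Surjective rb := fun x => ⟨ib x, LinearMap.congr_fun hrib x⟩
      rw [LinearMap.range_eq_top.2 hs, finrank_top, Module.finrank_fin_fun] at h1
      have h2 : Module.finrank k (LinearMap.ker rb) + (d + 1) = Module.finrank k V := by rw [add_comm]; exact h1
      show Module.finrank k (LinearMap.ker rb) ≤ m
      omega
    obtain ⟨ιK, _, _, NK, iK, rK, hNK, hiK, hrK, hriK⟩ := ih K MK hMK hK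
    let pr₁ : (ιd ⊕ ιK → k) →ₗ[k] (ιd → k) := LinearMap.funLeft k k Sum.inl
    let pr₂ : (ιd ⊕ ιK → k) →ₗ[k] (ιK → k) := LinearMap.funLeft k k Sum.inr
    let i : V →ₗ[k] (ιd ⊕ ιK → k) :=
      (LinearEquiv.sumArrowLequivProdArrow ιd ιK k k).symm.toLinearMap ∘ₗ
        ((id' ∘ₗ rb).prod (iK ∘ₗ pK))
    let r : (ιd ⊕ ιK → k) →ₗ[k] V := ib ∘ₗ rd ∘ₗ pr₁ + K.subtype ∘ₗ rK ∘ₗ pr₂
    have hi1 : ∀ x, pr₁ (i x) = id' (rb x) := fun x => rfl
    have hi2 : ∀ x, pr₂ (i x) = iK (pK x) := fun x => rfl
    refine ⟨ιd ⊕ ιK, inferInstance, inferInstance, _, i, r, C.ok_sum ιd ιK N NK hN hNK, ?_, ?_, ?_⟩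
    · refine LinearMap.ext fun x => funext fun a => ?_
      have hp : pK (M x) = MK (pK x) := Subtype.ext <| by
        show M x - ib (rb (M x)) = M (x - ib (rb x))
        rw [map_sub, show rb (M x) = shift d (rb x) from LinearMap.congr_fun hrb x,
          show ib (shift d (rb x)) = M (ib (rb x)) from LinearMap.congr_fun hib _]
      simp only [LinearMap.comp_apply, Matrix.mulVecLin_apply, Matrix.fromBlocks_mulVec, Matrix.zero_mulVec,
        add_zero, zero_add]
      cases a with
      | inl a =>
        show id' (rb (M x)) a = _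
        rw [show rb (M x) = shift d (rb x) from LinearMap.congr_fun hrb x,
          show id' (shift d (rb x)) = N.mulVecLin (id' (rb x)) from LinearMap.congr_fun hid _]
        rfl
      | inr a =>
        show iK (pK (M x)) a = _
        rw [hp, show iK (MK (pK x)) = NK.mulVecLin (iK (pK x)) from LinearMap.congr_fun hiK _]
        rfl
    · refine LinearMap.ext fun y => ?_
      simp only [LinearMap.comp_apply, Matrix.mulVecLin_apply, Matrix.fromBlocks_mulVec, Matrix.zero_mulVec,
        add_zero, zero_add, r, LinearMap.add_apply, map_add, Submodule.subtype_apply]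
      congr 1
      · rw [show M (ib (rd (pr₁ y))) = ib (shift d (rd (pr₁ y))) from (LinearMap.congr_fun hib _).symm,
          show shift d (rd (pr₁ y)) = rd (N.mulVecLin (pr₁ y)) from (LinearMap.congr_fun hrd _).symm]
        rfl
      · rw [show M (rK (pr₂ y) : V) = ((MK (rK (pr₂ y)) : K) : V) from rfl,
          show MK (rK (pr₂ y)) = rK (NK.mulVecLin (pr₂ y)) from LinearMap.congr_fun hrK _]
        rfl
    · refine LinearMap.ext fun x => ?_
      simp only [LinearMap.comp_apply, r, LinearMap.add_apply, hi1, hi2, Submodule.subtype_apply, LinearMap.id_apply,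
        show rd (id' (rb x)) = rb x from LinearMap.congr_fun hrid _,
        show rK (iK (pK x)) = pK x from LinearMap.congr_fun hriK _]
      show ib (rb x) + (x - ib (rb x)) = x
      abel

end

end Groth.Agent.H66.Weitz
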